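import Cfsg.Agent.Lib.R3f.Oa

set_option autoImplicit false

namespace CfsgLib.R3f

open MulAction

/-- A subgroup containing more than half of the elements is everything. -/
theorem top_of_half {Y : Type*} [Group Y] [Finite Y] (L : Subgroup Y)
    (h : Nat.card Y < 2 * Nat.card L) : L = ⊤ := by
  have h1 := L.index_mul_card
  have h2 : L.index ≠ 0 := Subgroup.index_ne_zero_of_finite
  rw [← Subgroup.index_eq_one]
  by_contra h3
  have : 2 ≤ L.index := by omega
  nlinarith

/-- The `3/4` lemma in a group with a unique involution. -/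
theorem cos34 {Y : Type*} [Group Y] [Fintype Y] [DecidableEq Y] (σ : Y ≃* Y) (I : Finset Y)
    (hI : ∀ a ∈ I, σ a = a⁻¹) (hc : ∀ a ∈ I, ∀ b : Y, (σ b)⁻¹ * a * b ∈ I)
    (hu : ∀ a b : Y, a * a = 1 → b * b = 1 → a ≠ 1 → b ≠ 1 → a = b) :
    4 * I.card ≤ 3 * Nat.card Y ∨ I.card = Nat.card Y := by
  by_contra hcon
  push Not at hcon
  obtain ⟨hbig, hne⟩ := hcon
  apply hne
  have hcard : Nat.card Y = (Finset.univ : Finset Y).card := by
    rw [Nat.card_eq_fintype_card, Finset.card_univ]
  have sub : ∀ (L : Subgroup Y) (s : Finset Y), (∀ a ∈ s, a ∈ L) → Nat.card Y < 2 * s.card →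
      L = ⊤ := by
    intro L s hs hlt
    refine top_of_half L (lt_of_lt_of_le hlt (Nat.mul_le_mul_left 2 ?_))
    rw [← Nat.card_eq_finsetCard]
    exact Nat.card_le_card_of_injective (fun a : s => (⟨a, hs a a.2⟩ : L))
      fun a b e => Subtype.ext (congrArg (fun z : L => (z : Y)) e)
  have cen : ∀ a ∈ I, a ∈ Subgroup.center Y := by
    intro a ha
    have h1 : Subgroup.centralizer {a} = ⊤ := by
      refine sub _ (I ∩ I.image fun b => a⁻¹ * b) ?_ ?_
      · intro b hb
        obtain ⟨hb1, hb2⟩ := Finset.mem_inter.1 hb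
        obtain ⟨c, hc1, hc2⟩ := Finset.mem_image.1 hb2
        have e : c = a * b := by rw [← hc2]; group
        have h3 := hI c hc1
        rw [e, map_mul, hI a ha, hI b hb1, mul_inv_rev] at h3
        rw [Subgroup.mem_centralizer_singleton_iff]
        have h4 := congrArg (·⁻¹) h3
        simpa using h4
      · have h2 := Finset.card_union_add_card_inter I (I.image fun b => a⁻¹ * b)
        rw [Finset.card_image_of_injective _ (mul_right_injective _)] at h2
        have h3 : (I ∪ I.image fun b => a⁻¹ * b).card ≤ Nat.card Y := by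
          rw [hcard]
          exact Finset.card_le_univ _
        omega
    rw [Subgroup.mem_center_iff]
    intro g
    have : g ∈ Subgroup.centralizer {a} := by rw [h1]; trivial
    exact Subgroup.mem_centralizer_singleton_iff.1 this
  have hZ : Subgroup.center Y = ⊤ := sub _ I cen (by omega)
  have comm : ∀ a b : Y, a * b = b * a := fun a b =>
    Subgroup.mem_center_iff.1 (show b ∈ Subgroup.center Y by rw [hZ]; trivial) a
  let L : Subgroup Y :=
    { carrier := {a | σ a = a⁻¹}
      one_mem' := by simp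
      mul_mem' := fun {a b} ha hb => by
        have ha' : σ a = a⁻¹ := ha
        have hb' : σ b = b⁻¹ := hb
        show σ (a * b) = (a * b)⁻¹
        rw [map_mul, ha', hb', mul_inv_rev, comm]
      inv_mem' := fun {a} ha => by
        have ha' : σ a = a⁻¹ := ha
        show σ a⁻¹ = a⁻¹⁻¹
        rw [map_inv, ha'] }
  have hL : L = ⊤ := sub L I hI (by omega)
  have inv : ∀ b : Y, σ b = b⁻¹ := fun b => (show b ∈ L by rw [hL]; trivial)
  have hsq : ∀ a ∈ I, ∀ b : Y, a * (b * b) ∈ I := by
    intro a ha b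
    have := hc a ha b
    rwa [inv, inv_inv, comm b a, mul_assoc] at this
  -- the complement of `I` is also a union of cosets of the squares
  by_contra hne
  have hlt : I.card < (Finset.univ : Finset Y).card := by
    rw [← hcard]
    exact lt_of_le_of_ne (by rw [hcard]; exact Finset.card_le_univ _) hne
  obtain ⟨c, -, hcI⟩ := Finset.exists_mem_notMem_of_card_lt_card hlt
  have hsub : (Finset.univ.image fun b : Y => c * (b * b)) ⊆ Finset.univ \ I := by
    intro z hz
    obtain ⟨b, -, rfl⟩ := Finset.mem_image.1 hz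
    refine Finset.mem_sdiff.2 ⟨Finset.mem_univ _, fun h => hcI ?_⟩
    have := hsq _ h b⁻¹
    have e : c * (b * b) * (b⁻¹ * b⁻¹) = c := by group
    rwa [e] at this
  have hfib : (Finset.univ : Finset Y).card ≤
      2 * (Finset.univ.image fun b : Y => c * (b * b)).card := by
    refine Finset.card_le_mul_card_image _ 2 fun z hz => ?_
    obtain ⟨b, -, rfl⟩ := Finset.mem_image.1 hz
    by_contra h3
    obtain ⟨p, hp, q, hq, r, hr, hpq, hpr, hqr⟩ := Finset.two_lt_card.1 (not_le.1 h3)
    have key : ∀ p q : Y, c * (p * p) = c * (b * b) → c * (q * q) = c * (b * b) →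
        (p⁻¹ * q) * (p⁻¹ * q) = 1 := by
      intro p q hp hq
      have e : q * q = p * p := mul_left_cancel (hq.trans hp.symm)
      calc (p⁻¹ * q) * (p⁻¹ * q) = p⁻¹ * (q * p⁻¹) * q := by group
        _ = p⁻¹ * (p⁻¹ * q) * q := by rw [comm q]
        _ = p⁻¹ * p⁻¹ * (q * q) := by group
        _ = 1 := by rw [e]; group
    have hp' := (Finset.mem_filter.1 hp).2
    have hq' := (Finset.mem_filter.1 hq).2
    have hr' := (Finset.mem_filter.1 hr).2
    have := hu _ _ (key p q hp' hq') (key p r hp' hr')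
      (fun e => hpq (inv_mul_eq_one.1 e)) (fun e => hpr (inv_mul_eq_one.1 e))
    exact hqr (mul_left_cancel this)
  have h5 := Finset.card_le_card hsub
  rw [Finset.card_sdiff_of_subset (Finset.subset_univ _)] at h5
  omega

variable {G X : Type*} [Group G] [Fintype G] [Fintype X] [DecidableEq X] [MulAction G X]

namespace Cf

variable (C : Cf G X)

/-- Package COS. -/
theorem tc_34 (hk : Odd C.k) {x y : X} (hU : ∀ a ∈ C.K x, a • y = y → a = 1)
    (he : Even (Nat.card (S2 G x y))) :
    4 * tc G x y ≤ 3 * Nat.card (S2 G x y) ∨ tc G x y = Nat.card (S2 G x y) := by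
  classical
  by_cases h0 : tc G x y = 0
  · left
    omega
  obtain ⟨s, hs⟩ := Finset.card_pos.1 (Nat.pos_of_ne_zero h0)
  obtain ⟨hsT, hsx⟩ := Finset.mem_filter.1 hs
  have sq : ∀ {t : G}, t ∈ T G X → t * t = 1 := fun ht => (mem_T.1 ht).1
  have swap : ∀ {t : G}, t ∈ T G X → t • x = y → t • y = x := fun {t} ht h => by
    rw [← h, ← mul_smul, sq ht, one_smul]
  have hsy := swap hsT hsx
  have hsi : s⁻¹ = s := inv_eq_of_mul_eq_one_right (sq hsT)
  have hn : s ∈ Subgroup.normalizer ((S2 G x y : Subgroup G) : Set G) := by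
    refine Subgroup.mem_normalizer_fintype fun a ha => ⟨?_, ?_⟩
    · show (s * a * s⁻¹) • x = x
      rw [hsi, mul_smul, mul_smul, hsx, mem_stabilizer_iff.1 ha.2, hsy]
    · show (s * a * s⁻¹) • y = y
      rw [hsi, mul_smul, mul_smul, hsy, mem_stabilizer_iff.1 ha.1, hsx]
  let σ : S2 G x y ≃* S2 G x y := (S2 G x y).normalizerMonoidHom ⟨s, hn⟩
  have hσ : ∀ a : S2 G x y, ((σ a : S2 G x y) : G) = s * a * s⁻¹ := fun a => rfl
  let I : Finset (S2 G x y) := Finset.univ.filter fun a => s * (a : G) ∈ T G X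
  have hI : I.card = tc G x y := by
    refine Finset.card_bij (fun a _ => s * (a : G)) ?_ ?_ ?_
    · intro a ha
      refine Finset.mem_filter.2 ⟨(Finset.mem_filter.1 ha).2, ?_⟩
      rw [mul_smul, mem_stabilizer_iff.1 a.2.1, hsx]
    · intro a _ b _ e
      exact Subtype.ext (mul_left_cancel e)
    · intro t ht
      obtain ⟨ht1, ht2⟩ := Finset.mem_filter.1 ht
      have e : s * (s * t) = t := by rw [← mul_assoc, sq hsT, one_mul]
      refine ⟨⟨s * t, ?_, ?_⟩, Finset.mem_filter.2 ⟨Finset.mem_univ _, ?_⟩, e⟩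
      · show (s * t) • x = x
        rw [mul_smul, ht2, hsy]
      · show (s * t) • y = y
        rw [mul_smul, swap ht1 ht2, hsx]
      · show s * (s * t) ∈ T G X
        rwa [e]
  rw [← hI]
  refine cos34 σ I ?_ ?_ ?_
  · intro a ha
    have h1 := sq (Finset.mem_filter.1 ha).2
    apply Subtype.ext
    rw [hσ, hsi, Subgroup.coe_inv, eq_inv_iff_mul_eq_one, ← h1]
    group
  · intro a ha b
    refine Finset.mem_filter.2 ⟨Finset.mem_univ _, ?_⟩
    have h1 := T_conj ((b : G)⁻¹) (Finset.mem_filter.1 ha).2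
    have e : s * (((σ b)⁻¹ * a * b : S2 G x y) : G) = (b : G)⁻¹ * (s * a) * (b : G)⁻¹⁻¹ := by
      rw [Subgroup.coe_mul, Subgroup.coe_mul, Subgroup.coe_inv, hσ, hsi]
      calc s * ((s * b * s)⁻¹ * a * b) = s * s⁻¹ * (b : G)⁻¹ * s⁻¹ * a * b := by group
        _ = (b : G)⁻¹ * (s * a) * (b : G)⁻¹⁻¹ := by rw [mul_inv_cancel, hsi]; group
    rwa [e]
  · intro a b ha hb ha1 hb1
    have haT : (a : G) ∈ T G X :=
      mem_T.2 ⟨congrArg Subtype.val ha, fun e => ha1 (Subtype.ext e), x, a.2.1⟩
    have hbT : (b : G) ∈ T G X :=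
      mem_T.2 ⟨congrArg Subtype.val hb, fun e => hb1 (Subtype.ext e), x, b.2.1⟩
    have h1 := hU _ (C.inv_mul_mem hk haT hbT a.2.1 b.2.1) (mul_mem a.2 b.2).2
    apply Subtype.ext
    rw [eq_inv_of_mul_eq_one_left h1, inv_eq_of_mul_eq_one_right (sq hbT)]

end Cf

end CfsgLib.R3f
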